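import Cfsg.Agent.H273.IF.FiAbs
import Cfsg.Agent.H836.JFi22
import Cfsg.Agent.H833.F22Cnt
import Cfsg.Agent.H890.IF.FiTwoTwo
import Cfsg.Agent.H618.IF.FiTT

/-!
# S5719, cell `fi22` (helper273)

`killE_fi22` (`FiAbs`, helper890's `pair_le`) and helper618's `killO_fi22` give the row.
-/

set_option autoImplicit false

namespace Cfsg.Agent.H273.IFTwo

open Subgroup Cfsg Cfsg.Agent.H209.Fxy

theorem inv_T : H836.Inv Spor.Fi22 R01.Fi22Facts.T := by
  have h := H836.inv_of_iso (MulEquiv.refl Spor.Fi22)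
  rwa [H833.F22Cnt.TK_refl] at h

theorem killE_fi22 : KillE Spor.Fi22 := by
  have J := H836.JFi22.jdata
  refine killE inv_T R01.Fi22Facts.isSimple (fun a ha b hb hne hab => H833.F22Cnt.lam ha hb hne hab)
    ⟨J.sq, ?_, J.ncard⟩ (fun a b ha hb hne hab A hA h16 =>
      H890.IF.FiTwoTwo.pair_le ha hb hne hab A hA (h16.trans (by norm_num)))
  rw [J.card]
  norm_num

theorem kill_fi22 : Kill Spor.Fi22 := by
  have := R01.Fi22Facts.finite
  exact Kill.of killE_fi22 H618.IF.FiTT.killO_fi22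

/-- **The cell `fi22` of S5719.** -/
theorem row_fi22 : Row fun T => Spor.IsoFi22 T := by
  rintro T _ _ _ - ⟨e⟩ A Γ hA
  exact Kill.congr e.symm kill_fi22 A Γ hA

end Cfsg.Agent.H273.IFTwo
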